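import Mathlib
import Cfsg.Agent.Lib.Helper44.FW.Defs

/-!
[INVOL] package of helper44's S3211 ("FW") project: the involutions of `C(j)` other than `j`
are the products `x * y` with `x ∈ L₁`, `y ∈ L₂`, `x² = y² = j`.
-/

set_option autoImplicit false

namespace Cfsg.Agent.Lib.Helper42.FW

open Cfsg.Agent.Lib.Helper44.FW

universe u

theorem pkgInvol : PkgInvol.{u} := by
  intro G _ L₁ L₂ j n cfg h1 h2 r hrC hr2 hr1 hrj
  have hjj : j * j = 1 := by
    have := pow_orderOf_eq_one j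
    rw [cfg.ord, pow_two] at this
    exact this
  have hj1 : j ≠ 1 := by
    intro h
    have := cfg.ord
    rw [h, orderOf_one] at this
    omega
  have hjinv : j⁻¹ = j := inv_eq_of_mul_eq_one_right hjj
  have hjmem : j ∈ L₁ ⊓ L₂ := by rw [cfg.meet]; exact Subgroup.mem_zpowers j
  have hjL1 : j ∈ L₁ := hjmem.1
  have hjL2 : j ∈ L₂ := hjmem.2
  have hmeet : ∀ z, z ∈ L₁ → z ∈ L₂ → z = 1 ∨ z = j := by
    intro z hz1 hz2
    have hz : z ∈ Subgroup.zpowers j := by rw [← cfg.meet]; exact ⟨hz1, hz2⟩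
    obtain ⟨k, rfl⟩ := Subgroup.mem_zpowers_iff.mp hz
    have hjz2 : j ^ (2 : ℤ) = 1 := by rw [zpow_two]; exact hjj
    rcases Int.even_or_odd' k with ⟨m, rfl | rfl⟩
    · left; rw [zpow_mul, hjz2, one_zpow]
    · right; rw [zpow_add_one, zpow_mul, hjz2, one_zpow, one_mul]
  have hC : ∀ c, c ∈ Subgroup.centralizer ({j} : Set G) → c * j = j * c := by
    intro c hc
    rw [Subgroup.mem_centralizer_iff] at hc
    exact (hc j rfl).symm
  have hL1C : L₁ ≤ Subgroup.centralizer ({j} : Set G) := le_sup_left.trans cfg.le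
  have hL2C : L₂ ≤ Subgroup.centralizer ({j} : Set G) := le_sup_right.trans cfg.le
  have hnn : n * n = j := by rw [← pow_two]; exact cfg.hn2
  have hnC := cfg.hn
  -- elements of the join
  have hY : ∀ r ∈ L₁ ⊔ L₂, ∃ x ∈ L₁, ∃ y ∈ L₂, r = x * y := by
    let Y' : Subgroup G :=
      { carrier := {r | ∃ x ∈ L₁, ∃ y ∈ L₂, r = x * y}
        mul_mem' := by
          rintro _ _ ⟨x, hx, y, hy, rfl⟩ ⟨x', hx', y', hy', rfl⟩
          refine ⟨x * x', L₁.mul_mem hx hx', y * y', L₂.mul_mem hy hy', ?_⟩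
          calc x * y * (x' * y') = x * (y * x') * y' := by group
            _ = x * (x' * y) * y' := by rw [cfg.comm x' hx' y hy]
            _ = x * x' * (y * y') := by group
        one_mem' := ⟨1, L₁.one_mem, 1, L₂.one_mem, by rw [mul_one]⟩
        inv_mem' := by
          rintro _ ⟨x, hx, y, hy, rfl⟩
          refine ⟨x⁻¹, L₁.inv_mem hx, y⁻¹, L₂.inv_mem hy, ?_⟩
          rw [mul_inv_rev, cfg.comm x⁻¹ (L₁.inv_mem hx) y⁻¹ (L₂.inv_mem hy)] }
    have hle : L₁ ⊔ L₂ ≤ Y' := sup_le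
      (fun x hx => ⟨x, hx, 1, L₂.one_mem, by rw [mul_one]⟩)
      (fun y hy => ⟨1, L₁.one_mem, y, hy, by rw [one_mul]⟩)
    exact fun r hr => hle hr
  -- the swap
  have hsw1 : ∀ x ∈ L₁, n * x * n⁻¹ ∈ L₂ := by
    intro x hx
    rw [← cfg.swap]
    exact ⟨x, hx, rfl⟩
  have hsw2 : ∀ y ∈ L₂, n * y * n⁻¹ ∈ L₁ := by
    intro y hy
    rw [← cfg.swap] at hy
    obtain ⟨x, hx, rfl⟩ := hy
    have hxj : x * (n * n) = (n * n) * x := by rw [hnn]; exact hC x (hL1C hx)
    have e : n * ((MulAut.conj n).toMonoidHom x) * n⁻¹ = x := by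
      show n * (n * x * n⁻¹) * n⁻¹ = x
      calc n * (n * x * n⁻¹) * n⁻¹ = ((n * n) * x) * n⁻¹ * n⁻¹ := by group
        _ = (x * (n * n)) * n⁻¹ * n⁻¹ := by rw [hxj]
        _ = x := by group
    rw [e]; exact hx
  -- n is not in the join
  have hnY : n ∉ L₁ ⊔ L₂ := by
    intro hn
    obtain ⟨x, hx, y, hy, hxy⟩ := hY n hn
    have ex : n * x * n⁻¹ = x := by
      rw [hxy]
      calc x * y * x * (x * y)⁻¹ = x * (y * x) * y⁻¹ * x⁻¹ := by group
        _ = x * (x * y) * y⁻¹ * x⁻¹ := by rw [cfg.comm x hx y hy]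
        _ = x := by group
    have ey : n * y * n⁻¹ = y := by
      rw [hxy]
      calc x * y * y * (x * y)⁻¹ = (x * y) * x⁻¹ := by group
        _ = (y * x) * x⁻¹ := by rw [cfg.comm x hx y hy]
        _ = y := by group
    have hx' : x = 1 ∨ x = j := hmeet x hx (ex ▸ hsw1 x hx)
    have hy' : y = 1 ∨ y = j := hmeet y (ey ▸ hsw2 y hy) hy
    have : n * n = 1 := by
      rw [hxy]
      rcases hx' with rfl | rfl <;> rcases hy' with rfl | rfl
      · simp
      · simp [hjj]
      · simp [hjj]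
      · simp [hjj]
    rw [hnn] at this
    exact hj1 this
  by_cases hrY : r ∈ L₁ ⊔ L₂
  · obtain ⟨x, hx, y, hy, rfl⟩ := hY r hrY
    have hsq : (x * x) * (y * y) = 1 := by
      rw [pow_two] at hr2
      calc (x * x) * (y * y) = x * (x * y) * y := by group
        _ = x * (y * x) * y := by rw [cfg.comm x hx y hy]
        _ = x * y * (x * y) := by group
        _ = 1 := hr2
    have hxx2 : x * x ∈ L₂ := by
      have : x * x = (y * y)⁻¹ := eq_inv_of_mul_eq_one_left hsq
      rw [this]; exact L₂.inv_mem (L₂.mul_mem hy hy)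
    rcases hmeet (x * x) (L₁.mul_mem hx hx) hxx2 with hxx | hxx
    · exfalso
      have hyy : y * y = 1 := by rw [hxx, one_mul] at hsq; exact hsq
      have hx' := h1 x hx (by rw [pow_two]; exact hxx)
      have hy' := h2 y hy (by rw [pow_two]; exact hyy)
      rcases hx' with rfl | rfl <;> rcases hy' with rfl | rfl
      · exact hr1 (by simp)
      · exact hrj (by simp)
      · exact hrj (by simp)
      · exact hr1 hjj
    · refine ⟨x, hx, y, hy, rfl, by rw [pow_two]; exact hxx, ?_⟩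
      rw [hxx] at hsq
      rw [pow_two, ← hjinv]
      exact eq_inv_of_mul_eq_one_right hsq
  · exfalso
    -- r = n * (u * v)
    have hidx : ((L₁ ⊔ L₂).subgroupOf (Subgroup.centralizer ({j} : Set G))).index = 2 := cfg.idx
    have hmem : (⟨n⁻¹, inv_mem hnC⟩ * ⟨r, hrC⟩ : Subgroup.centralizer ({j} : Set G)) ∈
        (L₁ ⊔ L₂).subgroupOf (Subgroup.centralizer ({j} : Set G)) := by
      rw [Subgroup.mul_mem_iff_of_index_two hidx, Subgroup.mem_subgroupOf, Subgroup.mem_subgroupOf]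
      constructor
      · intro h; exact absurd ((L₁ ⊔ L₂).inv_mem_iff.mp h) hnY
      · intro h; exact absurd h hrY
    rw [Subgroup.mem_subgroupOf] at hmem
    obtain ⟨u, hu, v, hv, huv⟩ := hY _ hmem
    have hr : r = n * (u * v) := by
      have : (n⁻¹ * r : G) = u * v := huv
      rw [← this, mul_inv_cancel_left]
    have huj : u * (n * n) = (n * n) * u := by rw [hnn]; exact hC u (hL1C hu)
    have hj2' : (n * n) * (n * n) = 1 := by rw [hnn]; exact hjj
    -- r * r = 1
    have hrr : r * r = 1 := by rw [← pow_two]; exact hr2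
    -- decompose
    have hu' : n * u * n⁻¹ ∈ L₂ := hsw1 u hu
    have hv' : n * v * n⁻¹ ∈ L₁ := hsw2 v hv
    have hvj : v * (n * n) = (n * n) * v := by rw [hnn]; exact hC v (hL2C hv)
    have hprod : (n * n) * ((n * v * n⁻¹ * u) * (n * u * n⁻¹ * v)) = 1 := by
      have e1 : (n * v * n⁻¹) * (n * u * n⁻¹) = (n * u * n⁻¹) * (n * v * n⁻¹) :=
        cfg.comm _ hv' _ hu'
      have e2 : u * (n * u * n⁻¹) = (n * u * n⁻¹) * u := cfg.comm u hu _ hu'
      have e3 : (n * v * n⁻¹) * (n * n) = (n * n) * (n * v * n⁻¹) := by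
        rw [hnn]; exact hC _ (hL1C hv')
      have e4 : (n * u * n⁻¹) * (n * n) = (n * n) * (n * u * n⁻¹) := by
        rw [hnn]; exact hC _ (hL2C hu')
      calc (n * n) * ((n * v * n⁻¹ * u) * (n * u * n⁻¹ * v))
          = (n * n) * (n * v * n⁻¹) * (u * (n * u * n⁻¹)) * v := by group
        _ = (n * n) * (n * v * n⁻¹) * ((n * u * n⁻¹) * u) * v := by rw [e2]
        _ = (n * n) * ((n * v * n⁻¹) * (n * u * n⁻¹)) * u * v := by group
        _ = (n * n) * ((n * u * n⁻¹) * (n * v * n⁻¹)) * u * v := by rw [e1]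
        _ = ((n * n) * (n * u * n⁻¹)) * (n * v * n⁻¹) * u * v := by group
        _ = ((n * u * n⁻¹) * (n * n)) * (n * v * n⁻¹) * u * v := by rw [e4]
        _ = (n * u * n⁻¹) * ((n * n) * (n * v * n⁻¹)) * u * v := by group
        _ = (n * u * n⁻¹) * ((n * v * n⁻¹) * (n * n)) * u * v := by rw [e3]
        _ = (n * (u * v)) * (n * (u * v)) := by group
        _ = 1 := by rw [← hr]; exact hrr
    have hp1 : n * v * n⁻¹ * u ∈ L₁ := L₁.mul_mem hv' hu
    have hq2 : n * u * n⁻¹ * v ∈ L₂ := L₂.mul_mem hu' hv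
    have hp2 : n * v * n⁻¹ * u ∈ L₂ := by
      have : n * v * n⁻¹ * u = ((n * n) * (n * u * n⁻¹ * v))⁻¹ := by
        apply eq_inv_of_mul_eq_one_left
        calc n * v * n⁻¹ * u * ((n * n) * (n * u * n⁻¹ * v))
            = (n * v * n⁻¹ * u * (n * n)) * (n * u * n⁻¹ * v) := by group
          _ = ((n * n) * (n * v * n⁻¹ * u)) * (n * u * n⁻¹ * v) := by
              rw [show n * v * n⁻¹ * u * (n * n) = (n * n) * (n * v * n⁻¹ * u) from by
                rw [hnn]; exact hC _ (hL1C hp1)]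
          _ = (n * n) * ((n * v * n⁻¹ * u) * (n * u * n⁻¹ * v)) := by group
          _ = 1 := hprod
      rw [this]
      exact L₂.inv_mem (L₂.mul_mem (hnn ▸ hjL2) hq2)
    have hfin : r * r = n * n := by
      rcases hmeet _ hp1 hp2 with hp | hp
      · have hv_eq : v = n⁻¹ * u⁻¹ * n := by
          have : n * v * n⁻¹ = u⁻¹ := eq_inv_of_mul_eq_one_left hp
          rw [← this]; group
        rw [hr, hv_eq]
        calc n * (u * (n⁻¹ * u⁻¹ * n)) * (n * (u * (n⁻¹ * u⁻¹ * n)))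
            = n * u * n⁻¹ * u⁻¹ * ((n * n) * u) * n⁻¹ * u⁻¹ * n := by group
          _ = n * u * n⁻¹ * u⁻¹ * (u * (n * n)) * n⁻¹ * u⁻¹ * n := by rw [huj]
          _ = n * n := by group
      · have hv_eq : v = n⁻¹ * ((n * n) * u⁻¹) * n := by
          have : n * v * n⁻¹ = (n * n) * u⁻¹ := by
            rw [← hnn] at hp
            exact eq_mul_inv_of_mul_eq hp
          rw [← this]; group
        rw [hr, hv_eq]
        calc n * (u * (n⁻¹ * ((n * n) * u⁻¹) * n)) * (n * (u * (n⁻¹ * ((n * n) * u⁻¹) * n)))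
            = n * u * n * u⁻¹ * ((n * n) * u) * n * u⁻¹ * n := by group
          _ = n * u * n * u⁻¹ * (u * (n * n)) * n * u⁻¹ * n := by rw [huj]
          _ = n * u * ((n * n) * (n * n)) * u⁻¹ * n := by group
          _ = n * u * 1 * u⁻¹ * n := by rw [hj2']
          _ = n * n := by group
    rw [hrr, hnn] at hfin
    exact hj1 hfin.symm

end Cfsg.Agent.Lib.Helper42.FW
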